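import Cfsg.Agent.SchurG.Om6.Pres

set_option autoImplicit false
set_option maxRecDepth 100000

namespace Cfsg.Agent.SchurG.Om6
open Cfsg.Agent.Comp

noncomputable def n0 : Net :=
(Net.cons (nat_lit 0x1200) (nat_lit 23)
(Net.cons (nat_lit 0x3d6000201) (nat_lit 11)
(Net.cons (nat_lit 0x580000201c) (nat_lit 6)
(Net.cons (nat_lit 0x200400c0040) (nat_lit 3)
(Net.cons (nat_lit 0x20040) (nat_lit 1)
(Net.cons (nat_lit 0x4841041080) (nat_lit 1)
(Net.cons (nat_lit 0x10000120040) (nat_lit 1)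
(Net.cons (nat_lit 0x21c010c00c4) (nat_lit 3)
(Net.cons (nat_lit 0x580f80201d) (nat_lit 6)
(Net.cons (nat_lit 0x3d6000201) (nat_lit 11)
(Net.cons (nat_lit 0x1200) (nat_lit 23)
Net.nil)))))))))))

noncomputable def n1 : Net :=
(Net.cons (nat_lit 0x802e9) (nat_lit 23)
(Net.cons (nat_lit 0x38b0005a0) (nat_lit 11)
(Net.cons (nat_lit 0xc00817014) (nat_lit 6)
(Net.cons (nat_lit 0x30042003086) (nat_lit 3)
(Net.cons (nat_lit 0x920808) (nat_lit 1)
(Net.cons (nat_lit 0x20001249092) (nat_lit 1)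
(Net.cons (nat_lit 0x80104924208) (nat_lit 1)
(Net.cons (nat_lit 0x31c030a0886) (nat_lit 3)
(Net.cons (nat_lit 0xc0f817015) (nat_lit 6)
(Net.cons (nat_lit 0x38b0005a0) (nat_lit 11)
(Net.cons (nat_lit 0x802e9) (nat_lit 23)
Net.nil)))))))))))

noncomputable def n2 : Net :=
(Net.cons (nat_lit 0x2aaf74) (nat_lit 23)
(Net.cons (nat_lit 0x234000455) (nat_lit 11)
(Net.cons (nat_lit 0x40b00900c) (nat_lit 6)
(Net.cons (nat_lit 0x20061040080) (nat_lit 3)
(Net.cons (nat_lit 0x10404000049) (nat_lit 1)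
(Net.cons (nat_lit 0x24849000092) (nat_lit 1)
(Net.cons (nat_lit 0x92100820249) (nat_lit 1)
(Net.cons (nat_lit 0x31c620c3085) (nat_lit 3)
(Net.cons (nat_lit 0x2c0b00d01c) (nat_lit 6)
(Net.cons (nat_lit 0x2f0800455) (nat_lit 11)
(Net.cons (nat_lit 0x2aaf74) (nat_lit 23)
Net.nil)))))))))))

noncomputable def n3 : Net :=
(Net.cons (nat_lit 0x1d0ca4) (nat_lit 23)
(Net.cons (nat_lit 0x2a4) (nat_lit 11)
(Net.cons (nat_lit 0x700c00a012) (nat_lit 6)
(Net.cons (nat_lit 0x21040080040) (nat_lit 3)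
(Net.cons (nat_lit 0x2000000848) (nat_lit 1)
(Net.cons (nat_lit 0x24040201090) (nat_lit 1)
(Net.cons (nat_lit 0x90500824a48) (nat_lit 1)
(Net.cons (nat_lit 0x10062880046) (nat_lit 3)
(Net.cons (nat_lit 0xc0981a01e) (nat_lit 6)
(Net.cons (nat_lit 0x408002a4) (nat_lit 11)
(Net.cons (nat_lit 0xc2ca4) (nat_lit 23)
Net.nil)))))))))))

noncomputable def n4 : Net :=
(Net.cons (nat_lit 0x17b003) (nat_lit 23)
(Net.cons (nat_lit 0x39f000253) (nat_lit 11)
(Net.cons (nat_lit 0x500481700c) (nat_lit 6)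
(Net.cons (nat_lit 0x1000042006) (nat_lit 3)
(Net.cons (nat_lit 0x10004820808) (nat_lit 1)
(Net.cons (nat_lit 0x24009241090) (nat_lit 1)
(Net.cons (nat_lit 0x82104004809) (nat_lit 1)
(Net.cons (nat_lit 0x21442862885) (nat_lit 3)
(Net.cons (nat_lit 0x300781a81a) (nat_lit 6)
(Net.cons (nat_lit 0x245000647) (nat_lit 11)
(Net.cons (nat_lit 0x37a203) (nat_lit 23)
Net.nil)))))))))))

noncomputable def n5 : Net :=
(Net.cons (nat_lit 0x37a203) (nat_lit 23)
(Net.cons (nat_lit 0x245000647) (nat_lit 11)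
(Net.cons (nat_lit 0x880501a) (nat_lit 6)
(Net.cons (nat_lit 0x30023042082) (nat_lit 3)
(Net.cons (nat_lit 0x400900001) (nat_lit 1)
(Net.cons (nat_lit 0x20841209082) (nat_lit 1)
(Net.cons (nat_lit 0x82424924009) (nat_lit 1)
(Net.cons (nat_lit 0x20022062801) (nat_lit 3)
(Net.cons (nat_lit 0x140b80880c) (nat_lit 6)
(Net.cons (nat_lit 0x39f000253) (nat_lit 11)
(Net.cons (nat_lit 0x17b003) (nat_lit 23)
Net.nil)))))))))))

noncomputable def n6 : Net :=
(Net.cons (nat_lit 0x144520) (nat_lit 23)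
(Net.cons (nat_lit 0x240004e0) (nat_lit 11)
(Net.cons (nat_lit 0x580a011008) (nat_lit 6)
(Net.cons (nat_lit 0x23000000) (nat_lit 3)
(Net.cons (nat_lit 0x10020100040) (nat_lit 1)
(Net.cons (nat_lit 0x20041208082) (nat_lit 1)
(Net.cons (nat_lit 0x12424024048) (nat_lit 1)
(Net.cons (nat_lit 0x10003000080) (nat_lit 3)
(Net.cons (nat_lit 0x580a00f008) (nat_lit 6)
(Net.cons (nat_lit 0x1060004e0) (nat_lit 11)
(Net.cons (nat_lit 0x144520) (nat_lit 23)
Net.nil)))))))))))

noncomputable def n7 : Net :=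
(Net.cons (nat_lit 0x27f283) (nat_lit 23)
(Net.cons (nat_lit 0x1920002c5) (nat_lit 11)
(Net.cons (nat_lit 0x5808011005) (nat_lit 6)
(Net.cons (nat_lit 0x20840000004) (nat_lit 3)
(Net.cons (nat_lit 0x400000849) (nat_lit 1)
(Net.cons (nat_lit 0x24840049092) (nat_lit 1)
(Net.cons (nat_lit 0x80504924041) (nat_lit 1)
(Net.cons (nat_lit 0x20842062804) (nat_lit 3)
(Net.cons (nat_lit 0x5808016007) (nat_lit 6)
(Net.cons (nat_lit 0x1b20003dd) (nat_lit 11)
(Net.cons (nat_lit 0x27f283) (nat_lit 23)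
Net.nil)))))))))))

noncomputable def T : List Net := [n0, n1, n2, n3, n4, n5, n6, n7]

theorem ok : TOK 45 T := TOK_of_ok (by decide +kernel)

def E : List (List Nat × List Nat) :=
  []

theorem sat : Sat (sig T) R :=
  sat_of_relsP ok (by norm_num) (show relsP (nat_lit 45) (nat_lit 6) (nat_lit 0) (nat_lit 6) T R = true by decide +kernel)

theorem eqs : ∀ e ∈ E, ev (sig T) e.1 = ev (sig T) e.2 := eqs_nil _

def lowW1 : List (List Nat) := [[0],
   [1],
   [2],
   [3],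
   [4],
   [5],
   [6]]

def lowW2 : List (List Nat) := [[0],
   [1],
   [2],
   [3],
   [4],
   [5]]

def lowW3 : List (List Nat) := [[0],
   [1],
   [2],
   [3]]

def lowW4 : List (List Nat) := [[0]]

theorem low_4 : 2 ≤ Nat.card (genW (sig T) lowW4) :=
  chain_step (W' := []) (b := 4) (n := 2) (m := 1) ok (le_of_subOK eqs (show subOK lowW4 [] E = true by decide +kernel)) (by decide +kernel)
    (le_ncard_of_orbGe ok (by norm_num) (show orbGe (nat_lit 45) (nat_lit 6) T lowW4 [0] (nat_lit 4) (nat_lit 2) = true by decide +kernel))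
    (chain_base ok [])

theorem low_3 : 16 ≤ Nat.card (genW (sig T) lowW3) :=
  chain_step (W' := lowW4) (b := 13) (n := 8) (m := 2) ok (le_of_subOK eqs (show subOK lowW3 lowW4 E = true by decide +kernel)) (by decide +kernel)
    (le_ncard_of_orbGe ok (by norm_num) (show orbGe (nat_lit 45) (nat_lit 6) T lowW3 [1, 2, 3] (nat_lit 13) (nat_lit 8) = true by decide +kernel))
    low_4

theorem low_2 : 48 ≤ Nat.card (genW (sig T) lowW2) :=
  chain_step (W' := lowW3) (b := 10) (n := 3) (m := 16) ok (le_of_subOK eqs (show subOK lowW2 lowW3 E = true by decide +kernel)) (by decide +kernel)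
    (le_ncard_of_orbGe ok (by norm_num) (show orbGe (nat_lit 45) (nat_lit 6) T lowW2 [4, 4] (nat_lit 10) (nat_lit 3) = true by decide +kernel))
    low_3

theorem low_1 : 576 ≤ Nat.card (genW (sig T) lowW1) :=
  chain_step (W' := lowW2) (b := 1) (n := 12) (m := 48) ok (le_of_subOK eqs (show subOK lowW1 lowW2 E = true by decide +kernel)) (by decide +kernel)
    (le_ncard_of_ivl (a := 1) ok (by norm_num) (show Nat.beq (grow T lowW1 [6, 0, 1, 3, 6] (pt (nat_lit 1))) (ivl (nat_lit 1) (nat_lit 12)) = true by decide +kernel))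
    low_2

theorem low : 25920 ≤ Nat.card (genW (sig T) (letters 8)) :=
  chain_step (W' := lowW1) (b := 0) (n := 45) (m := 576) ok (le_of_subOK eqs (show subOK (letters 8) lowW1 E = true by decide +kernel)) (by decide +kernel)
    (le_ncard_of_ivl (a := 0) ok (by norm_num) (show Nat.beq (grow T (letters 8) [7, 6, 0, 1, 3, 7, 6, 1, 3] (pt (nat_lit 0))) (ivl (nat_lit 0) (nat_lit 45)) = true by decide +kernel))
    low_1


end Cfsg.Agent.SchurG.Om6
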