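import Cfsg.Agent.SchurG.Om6.Up
import Cfsg.Agent.SchurG.Om6.Nets

set_option autoImplicit false
set_option maxRecDepth 100000

namespace Cfsg.Agent.SchurG.Om6
open Cfsg.Agent.Comp

def W0 : List (List Nat) := [[0],
[1],
[2],
[3],
[4],
[5],
[6]]

noncomputable def phi : G →* Equiv.Perm ℕ := (pres.rep ok sat).choose

theorem rep : Rep s 8 45 T phi := (pres.rep ok sat).choose_spec

theorem trans : ∀ i < 45, ∃ g, phi g 0 = i :=
  rep.trans (sch := [7, 6, 0, 1, 3, 7, 6, 1, 3]) (by decide +kernel)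

theorem stab : (genW s W0).index = 45 ∧ ∀ g, g ∈ genW s W0 ↔ phi g 0 = 0 :=
  rep.stab_eq (by decide +kernel) (by norm_num) trans (by decide +kernel) (Top.index _ s pres.sat)

theorem orb1 : MulAction.orbit (genW (sig T) W0) 1 = Set.Ico 1 (1 + 12) ∧
    (MulAction.orbit (genW (sig T) W0) 1).ncard = 12 :=
  orbit_ivl (sch := [6, 0, 1, 3, 6]) ok (by norm_num) (by norm_num) (by decide +kernel) (by decide +kernel)

theorem orb13 : MulAction.orbit (genW (sig T) W0) 13 = Set.Ico 13 (13 + 32) ∧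
    (MulAction.orbit (genW (sig T) W0) 13).ncard = 32 :=
  orbit_ivl (sch := [1, 2, 3, 4, 4, 6, 0]) ok (by norm_num) (by norm_num) (by decide +kernel) (by decide +kernel)

namespace Col

noncomputable def t0 : Tr := (Tr.node (nat_lit 0) (Tr.leaf (nat_lit 0x8691653fffffffffffffffffff02a7ffe124218ffffffffffffffff80480a7fff8e8ffffffe2d8fffffffffffff18d01623221d008f0047ffffffffffffc1c5fff8a8915bffffffffffffffffffffff8186123fff1290d6bfffffffffffffffffff8288f48526399fffffffffe29d00881493a05930087fffffffffffffffc4a7fff4c80647ffe010fffffffffe063fff85712a091540a93580aa01042b215912a5564882543ffe8d50087ffcb2a755ffffffd1a06d3fff9953ffffff0087ffcba9fff4481d40ba0293ffffffce200102e9fffd0a0550fff894bffe02000f8960020412408104003a21000dffffffe01afff8040001fff3e811413209d03c81e40b20450))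
(Tr.leaf (nat_lit 0x7ffffffffffffffffffffffffffffc001fffffffffffffffffffffffffffff0007ffffffffffffffffffffffffffffc001fffffffffffffffffffffffffffff0007ffffffffffffffffffffffffffffc001fffffffffffffffffffffffffffff0007ffffffffffffffffffffffffffffc001fffffffffffffffffffffffffffff0007ffffffffffffffffffffffffffffc001fffffffffffffffffffffffffffff0007ffffffffffffffffffffffffffffe1a669030a1993ffffff0098150c49fff8e97ffc025ffffffffffffffffffffffe32421204d004bfffffffff8163ffffff8a9145bffe4e1030004bfffffffff925a224555fffffffffffff02affffffffff)))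

noncomputable def T : Tr := t0

def RT : List (List (List Nat)) := [
  [[nat_lit 7, nat_lit 0, nat_lit 7],
   [nat_lit 2, nat_lit 7, nat_lit 2, nat_lit 7],
   [nat_lit 1, nat_lit 0, nat_lit 1],
   [nat_lit 0],
   [nat_lit 4, nat_lit 0, nat_lit 1, nat_lit 5]],
  [[nat_lit 6, nat_lit 2, nat_lit 7],
   [nat_lit 2, nat_lit 1, nat_lit 2],
   [nat_lit 1],
   [nat_lit 3, nat_lit 1, nat_lit 3]],
  [[nat_lit 6, nat_lit 1, nat_lit 7],
   [nat_lit 2],
   [nat_lit 0, nat_lit 2, nat_lit 0],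
   [nat_lit 3, nat_lit 2, nat_lit 3],
   [nat_lit 5, nat_lit 3, nat_lit 2, nat_lit 4],
   [nat_lit 0, nat_lit 7, nat_lit 2, nat_lit 7]],
  [[nat_lit 3],
   [nat_lit 5, nat_lit 1, nat_lit 4],
   [nat_lit 7, nat_lit 3, nat_lit 7]],
  [],
  [[nat_lit 4, nat_lit 4],
   [nat_lit 5]],
  [[nat_lit 2, nat_lit 7, nat_lit 1],
   [nat_lit 1, nat_lit 7, nat_lit 2],
   [nat_lit 1, nat_lit 2, nat_lit 6, nat_lit 1, nat_lit 2],
   [nat_lit 6],
   [nat_lit 0, nat_lit 4, nat_lit 0, nat_lit 6, nat_lit 1, nat_lit 5],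
   [nat_lit 4, nat_lit 1, nat_lit 6, nat_lit 0, nat_lit 5, nat_lit 0],
   [nat_lit 2, nat_lit 1, nat_lit 6, nat_lit 2, nat_lit 1]],
  [[nat_lit 2, nat_lit 0, nat_lit 7, nat_lit 2],
   [nat_lit 1, nat_lit 6, nat_lit 2],
   [nat_lit 0, nat_lit 2, nat_lit 7, nat_lit 2],
   [nat_lit 7],
   [nat_lit 3, nat_lit 7, nat_lit 3],
   [nat_lit 4, nat_lit 7, nat_lit 4]],
  [[nat_lit 0, nat_lit 6, nat_lit 0, nat_lit 6, nat_lit 0, nat_lit 6],
   [nat_lit 0, nat_lit 0],
   [nat_lit 7, nat_lit 7],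
   [nat_lit 1, nat_lit 1],
   [nat_lit 6, nat_lit 0, nat_lit 6, nat_lit 0, nat_lit 6, nat_lit 0],
   [nat_lit 4, nat_lit 5],
   [nat_lit 5, nat_lit 4],
   [nat_lit 2, nat_lit 2],
   [nat_lit 3, nat_lit 3],
   [nat_lit 7, nat_lit 6, nat_lit 3, nat_lit 6, nat_lit 7, nat_lit 6, nat_lit 3, nat_lit 6, nat_lit 7, nat_lit 6, nat_lit 3, nat_lit 6],
   [nat_lit 3, nat_lit 6, nat_lit 1, nat_lit 6, nat_lit 3, nat_lit 6, nat_lit 2, nat_lit 6],
   [nat_lit 2, nat_lit 6, nat_lit 3, nat_lit 6, nat_lit 1, nat_lit 6, nat_lit 3, nat_lit 6]]]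

def HT : List (List (Nat × Nat × Nat)) := [
  [(0, 25, 1), (0, 28, 1), (0, 9, 1), (0, 1, 0), (0, 19, 4)],
  [(1, 0, 2), (0, 11, 1), (0, 2, 0), (0, 13, 1)],
  [(0, 0, 1), (0, 3, 0), (0, 10, 0), (0, 14, 1), (1, 18, 2), (1, 28, 4)],
  [(0, 4, 0), (0, 16, 3), (0, 26, 1)],
  [],
  [(0, 15, 0), (0, 5, 1)],
  [(1, 0, 3), (0, 0, 2), (0, 20, 0), (0, 7, 0), (0, 23, 0), (1, 23, 1), (1, 20, 1)],
  [(1, 28, 3), (1, 0, 1), (0, 28, 0), (0, 8, 0), (0, 26, 0), (0, 27, 0)],
  [(0, 22, 0), (0, 1, 0), (0, 8, 0), (0, 2, 0), (0, 22, 1), (0, 5, 0), (0, 5, 1), (0, 3, 0), (0, 4, 0), (0, 30, 2), (0, 24, 6), (0, 24, 4)]]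

def R : List (List Nat) :=
  [[2, 6, 1, 7],
   [0, 0],
   [1, 1],
   [2, 2],
   [3, 3],
   [4, 5],
   [5, 4],
   [6, 6],
   [7, 7],
   [0, 1, 0, 1],
   [0, 2, 0, 2],
   [1, 2, 1, 2],
   [0, 3, 0, 3],
   [1, 3, 1, 3],
   [2, 3, 2, 3],
   [4, 4, 4],
   [1, 4, 3, 5],
   [1, 3, 4, 1, 5],
   [2, 3, 4, 2, 5],
   [0, 1, 5, 0, 4],
   [1, 2, 6, 1, 2, 6],
   [1, 5, 6, 4, 1, 6],
   [0, 6, 0, 6, 0, 6],
   [0, 4, 0, 6, 1, 5, 6],
   [1, 6, 3, 6, 2, 6, 3, 6],
   [0, 7, 0, 7],
   [3, 7, 3, 7],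
   [4, 7, 4, 7],
   [0, 2, 7, 2, 7],
   [6, 7, 6, 7, 6, 7, 6, 7],
   [3, 6, 7, 6, 3, 6, 7, 6, 3, 6, 7, 6]]

def W : List (List Nat) := []

noncomputable def P : Par := ⟨T, (nat_lit 4), (nat_lit 15), (nat_lit 130), (nat_lit 13), (nat_lit 8191), (nat_lit 6), (nat_lit 63), (nat_lit 8), (nat_lit 17), (nat_lit 48), (nat_lit 0x1283988518820), RT⟩

noncomputable def J0 : List Nat := [
  nat_lit 0x470023c44b0022c44f0021c44f0020c40570021c4470023c4c18414410515c8008f14459800cf119c008f1857a0021c5144122c008f10461800db104630022c6114c0083104101280056c4630023c404e00008ac411fc008b10610412480031c414e64800df1041561380044c4830020c41840168014b1045b16c011b121c008f125a00011715a00032c61560008312181280065c558000d71d727a00041c418e4a000c310410610417800060c411ec008b10410410614e52800df14a00032c617600032c41041667600014b14e00010b10660001931041041041119d800c71628008f1061928460044c410410410415a51800d710628000c3104104185e8000c7115e0031c588460030c5a9280030c410410588660030c410414e00031c610410410589720032c415212800cf10410410415252800e31,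
  nat_lit 0x10415612800c710410411860035c56e0023c4104184a192800019310421800064c410588000c31041061119d80040c529720033c410410410418410648000cf15200033c610412480030c548000d31002484e0000c9c41041041041041041041041041041041041041041041041041041041041041041041041041041041041041041041041041041041041041041041041041041041041041041041041041041]

theorem c0 : chk T (nat_lit 4) (nat_lit 15) (nat_lit 130) (nat_lit 13) (nat_lit 8191) (nat_lit 6) (nat_lit 63) (nat_lit 8) (nat_lit 17) (nat_lit 48) (nat_lit 0x1283988518820) (nat_lit 4) (nat_lit 15) RT (nat_lit 16) J0 (nat_lit 16) = true := by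
  decide +kernel

theorem r0 : P.RowsOK 16 48 := chk_sound P _ _ _ J0 _ _ (by decide +kernel) c0

theorem index.{u} : IndexLe.{u} 8 R W 1 :=
  indexLe_of_cert P HT (by decide +kernel)
    (show P.RowsOK 16 48 from r0)

end Col

theorem card : Finite G ∧ Nat.card G = 25920 ∧ Function.Injective phi :=
  rep.card_eq up low

def primT : List (List Nat × List Nat) :=
  [([7], [0, 7, 0, 1, 2, 4, 7, 2, 4]),
   ([7, 6, 7], [0, 1, 2, 3, 7, 2, 4, 0, 1, 7])]

theorem prim_0 : Nat.beq (grow T ([7] :: W0) [0, 7, 0, 1, 2, 4, 7, 2, 4] (pt (nat_lit 0))) (ivl (nat_lit 0) (nat_lit 45)) = true := by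
  decide +kernel

theorem prim_1 : Nat.beq (grow T ([7, 6, 7] :: W0) [0, 1, 2, 3, 7, 2, 4, 0, 1, 7] (pt (nat_lit 0))) (ivl (nat_lit 0) (nat_lit 45)) = true := by
  decide +kernel

theorem prim : Prim (gen (sig T) 8) 0 :=
  prim_of_cert (W := W0) (ts := primT) (sch := [0, 1, 2, 6, 1, 3, 0, 6]) ok (ok.genW_le _) (by norm_num) (genW_le_gen (by decide +kernel)) (by decide +kernel)
    (fun t ht => ev_mem fun x hx => letter_mem_gen ((by decide +kernel : ∀ t ∈ primT, ∀ x ∈ t.1, x < 8) t ht x hx)) (by decide +kernel)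
    (by simp only [primT, List.forall_mem_cons]; exact ⟨prim_0, prim_1, by simp⟩)

def XP : List (List Nat) := [[2, 6, 1, 7, 2, 6, 1, 7, 2, 6, 1, 7, 2, 6, 1, 7, 2, 6, 1, 7]]

theorem satX : Sat (sig T) XP :=
  sat_of_relsP ok (by norm_num) (show relsP (nat_lit 45) (nat_lit 6) (nat_lit 0) (nat_lit 6) T XP = true by decide +kernel)

theorem simple : IsSimpleGroup G :=
  rep.simple (m := 576) (p := 5) (X := [[2, 6, 1, 7]]) card.2.2 (by norm_num) (by norm_num) trans prim card.2.1 (by norm_num) pres.sat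
    Col.index (by decide +kernel) (by decide +kernel) (satX.mono (by decide +kernel))


end Cfsg.Agent.SchurG.Om6
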