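import Cfsg.Agent.Comp.TC
import Cfsg.Agent.SchurG.Om6.Pres

set_option autoImplicit false
set_option maxRecDepth 100000

namespace Cfsg.Agent.SchurG.Om6.Top
open Cfsg.Agent.Comp

noncomputable def t0 : Tr := (Tr.node (nat_lit 0) (Tr.leaf (nat_lit 0x805bfff0e9011f0c640980a602d90b640168757fff00540670d7831e025c3e40e701238657fff02740150c6c520167431d037449d8753fff00500660a841d70b841da0d782628653fff1580014158035d166c61b176c45b874ffff004c065136849a038c21c0190097834ffff018c4d90e6035f004c31f0c7c095814ffff0988418037c3d90b7c253004c094674bfff004809708700e103780620b840da654bfff0184060085001209502950a5405f634bfff017805d0b5431500482d60b580d9614bfff017005b06482560a5819200480d8604bfff01680d3114c413016421801600124647fff015c01101581d401541d401500532743fff004005204440d1024409105440910003fff0144050024005001400500140050))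
(Tr.node (nat_lit 1) (Tr.leaf (nat_lit 0xc597fff1eec6f002b802516d85f717e4629c497fff1de477500940ef1be872613a852ac397fff1e948ed18e45fb009477316f016dc297fff27cc7f91ea07f81dcc0250f9c16cc197fff11ac87717a46ba16f03a7009416bc693fff19d802401f043601ec77014b856ea68bfff1be802201e862b01e43f20ed866fa687fff249802101e076c01dc0760dc8735a67bfff039c01e01d48b001d03eb10b0427a673fff25a001c01cc07201c46ee1ec0070a66bfff1fb401a01bc06e01b406c01ac125a16bfff0d7c06a10883a30d8839e0068321a767fff00643e30f903e202683210f880de825ffff0860069108c3e40e900170e8c21c875bfff0058068025c25c0a703630c5c364865bfff166c016137451b15805e01580160))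
(Tr.leaf (nat_lit 0x3fffffffffffffffffffffffffffffff0003fffffffffffffffffffffffffffffff0003fffffffffffffffffffffffffffffffe5abfff17f07b111d802a15ac5b415b45fce3abfff1dbc83318b467900a87781ce873ac5a7fff1ca48ba19ac0291ab84311dec77bc3a7fff1eb87ac1aec5ed00a467516bc676c5a3fff25c88781eb00281fc07bb0ec47f1c3a3fff1ac482b11c45f400a05af18d4672c2a3fff18a883611a84bc15bc0280da46b9c59ffff23c07ae1fc00271ac86b919dc6e8c39ffff04d08f418dc671009c5fc1acc474c59bfff26b087b02c80261cb072d1bd07b3c49bfff26e08b200980f31bd44290ca06b7c39bfff1bdc7fc18d0437009847a0fe0838c09bfff24d46af219c83520e072a1f98026))))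

noncomputable def T : Tr := t0

def RT : List (List (List Nat)) := [
  [[nat_lit 1, nat_lit 0, nat_lit 1],
   [nat_lit 3, nat_lit 0, nat_lit 3],
   [nat_lit 7, nat_lit 0, nat_lit 7],
   [nat_lit 9],
   [nat_lit 6, nat_lit 0, nat_lit 6, nat_lit 0, nat_lit 6],
   [nat_lit 2, nat_lit 7, nat_lit 2, nat_lit 7],
   [nat_lit 5, nat_lit 0, nat_lit 4, nat_lit 1],
   [nat_lit 2, nat_lit 0, nat_lit 2],
   [nat_lit 4, nat_lit 0, nat_lit 1, nat_lit 5]],
  [[nat_lit 9],
   [nat_lit 6, nat_lit 3, nat_lit 6, nat_lit 2, nat_lit 6, nat_lit 3, nat_lit 6],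
   [nat_lit 4, nat_lit 3, nat_lit 5],
   [nat_lit 3, nat_lit 1, nat_lit 3],
   [nat_lit 0, nat_lit 1, nat_lit 0],
   [nat_lit 5, nat_lit 6, nat_lit 4, nat_lit 1, nat_lit 6],
   [nat_lit 4, nat_lit 1, nat_lit 5, nat_lit 3],
   [nat_lit 2, nat_lit 6, nat_lit 1, nat_lit 2, nat_lit 6],
   [nat_lit 2, nat_lit 1, nat_lit 2],
   [nat_lit 0, nat_lit 5, nat_lit 0, nat_lit 4]],
  [[nat_lit 9],
   [nat_lit 7, nat_lit 0, nat_lit 2, nat_lit 7],
   [nat_lit 1, nat_lit 6, nat_lit 2, nat_lit 1, nat_lit 6],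
   [nat_lit 0, nat_lit 2, nat_lit 0],
   [nat_lit 3, nat_lit 2, nat_lit 3],
   [nat_lit 7, nat_lit 2, nat_lit 0, nat_lit 7],
   [nat_lit 1, nat_lit 2, nat_lit 1],
   [nat_lit 6, nat_lit 1, nat_lit 2, nat_lit 6, nat_lit 1],
   [nat_lit 4, nat_lit 2, nat_lit 5, nat_lit 3],
   [nat_lit 5, nat_lit 3, nat_lit 2, nat_lit 4]],
  [[nat_lit 7, nat_lit 3, nat_lit 7],
   [nat_lit 9],
   [nat_lit 5, nat_lit 1, nat_lit 4],
   [nat_lit 0, nat_lit 3, nat_lit 0],
   [nat_lit 4, nat_lit 1, nat_lit 5, nat_lit 1],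
   [nat_lit 1, nat_lit 3, nat_lit 1],
   [nat_lit 1, nat_lit 4, nat_lit 1, nat_lit 5],
   [nat_lit 2, nat_lit 3, nat_lit 2]],
  [[nat_lit 0, nat_lit 4, nat_lit 0, nat_lit 1],
   [nat_lit 9],
   [nat_lit 7, nat_lit 5, nat_lit 7],
   [nat_lit 5, nat_lit 5],
   [nat_lit 1, nat_lit 4, nat_lit 3],
   [nat_lit 6, nat_lit 4, nat_lit 1, nat_lit 6, nat_lit 1],
   [nat_lit 3, nat_lit 2, nat_lit 4, nat_lit 2]],
  [[nat_lit 4, nat_lit 4],
   [nat_lit 7, nat_lit 4, nat_lit 7],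
   [nat_lit 1, nat_lit 6, nat_lit 1, nat_lit 5, nat_lit 6],
   [nat_lit 3, nat_lit 5, nat_lit 1],
   [nat_lit 0, nat_lit 6, nat_lit 1, nat_lit 5, nat_lit 6, nat_lit 0]],
  [[nat_lit 0, nat_lit 6, nat_lit 0, nat_lit 6, nat_lit 0],
   [nat_lit 4, nat_lit 1, nat_lit 6, nat_lit 1, nat_lit 5],
   [nat_lit 9],
   [nat_lit 7, nat_lit 6, nat_lit 7, nat_lit 6, nat_lit 7, nat_lit 6, nat_lit 7],
   [nat_lit 2, nat_lit 1, nat_lit 6, nat_lit 2, nat_lit 1],
   [nat_lit 1, nat_lit 5, nat_lit 6, nat_lit 4, nat_lit 1]],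
  [[nat_lit 0, nat_lit 7, nat_lit 0],
   [nat_lit 2, nat_lit 7, nat_lit 2, nat_lit 0],
   [nat_lit 6, nat_lit 3, nat_lit 6, nat_lit 7, nat_lit 6, nat_lit 3, nat_lit 6, nat_lit 7, nat_lit 6, nat_lit 3, nat_lit 6],
   [nat_lit 4, nat_lit 7, nat_lit 4],
   [nat_lit 6, nat_lit 7, nat_lit 6, nat_lit 7, nat_lit 6, nat_lit 7, nat_lit 6],
   [nat_lit 3, nat_lit 7, nat_lit 3],
   [nat_lit 2, nat_lit 0, nat_lit 7, nat_lit 2]],
  []]

def HT : List (List (Nat × Nat × Nat)) := [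
  [(0, 8, 1), (0, 11, 1), (0, 24, 1), (2, 0, 0), (0, 21, 1), (0, 27, 1), (1, 18, 0), (0, 9, 1), (0, 18, 4)],
  [(2, 1, 0), (0, 23, 1), (0, 15, 1), (0, 12, 1), (0, 8, 0), (0, 20, 1), (1, 16, 0), (0, 19, 1), (0, 10, 1), (1, 18, 4)],
  [(2, 2, 0), (0, 27, 4), (1, 19, 2), (0, 9, 0), (0, 13, 1), (1, 27, 2), (0, 10, 0), (0, 19, 2), (1, 17, 0), (1, 17, 2)],
  [(0, 25, 1), (2, 3, 0), (0, 15, 3), (0, 11, 0), (0, 16, 2), (0, 12, 0), (1, 16, 4), (0, 13, 0)],
  [(0, 18, 3), (2, 4, 0), (1, 26, 0), (1, 14, 0), (0, 15, 0), (0, 20, 2), (1, 17, 3)],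
  [(0, 14, 0), (0, 26, 1), (0, 20, 4), (0, 15, 2), (0, 22, 2)],
  [(0, 21, 0), (0, 20, 3), (2, 6, 0), (0, 28, 1), (1, 19, 1), (0, 20, 0)],
  [(0, 24, 0), (1, 27, 1), (0, 29, 3), (0, 26, 0), (0, 28, 0), (0, 25, 0), (1, 27, 3)],
  []]

def W : List (List Nat) := [[0],
   [1],
   [2],
   [3],
   [4],
   [5],
   [6]]

noncomputable def P : Par := ⟨T, (nat_lit 4), (nat_lit 15), (nat_lit 140), (nat_lit 14), (nat_lit 16383), (nat_lit 6), (nat_lit 63), (nat_lit 8), (nat_lit 61), (nat_lit 64), (nat_lit 0x1283988518820), RT⟩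

noncomputable def J0 : List Nat := [
  nat_lit 0x13c40010c40010c40011c40011c400012c40144324008410000008401841418080108500100010008414001056484800104000058412840000c013008408801400040084164b40085410570400841839804850100024008418559494c01,
  nat_lit 0x6bb4568401000253084176841000c14062406841286150008160000084010a60008401900000858100006084810080008541000070840128500142019a840000013008580d4187000849c1a000848001,
  nat_lit 0x2105002200400216200041c00212004c21e120504d021007706401e150504261400250651a1807506602612270496216070040292122004d621503204e19a1237041041041041041041041041041041041041041041]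

theorem c0 : chk T (nat_lit 4) (nat_lit 15) (nat_lit 140) (nat_lit 14) (nat_lit 16383) (nat_lit 6) (nat_lit 63) (nat_lit 8) (nat_lit 61) (nat_lit 64) (nat_lit 0x1283988518820) (nat_lit 4) (nat_lit 15) RT (nat_lit 16) J0 (nat_lit 16) = true := by
  decide +kernel

theorem r0 : P.RowsOK 16 64 := chk_sound P _ _ _ J0 _ _ (by decide +kernel) c0

theorem index.{u} : IndexLe.{u} 8 Om6.R W 45 :=
  indexLe_of_cert P HT (by decide +kernel)
    (show P.RowsOK 16 64 from r0)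

end Cfsg.Agent.SchurG.Om6.Top
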