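import Cfsg.Agent.SchurG.Om6.Pres
import Cfsg.Agent.SchurG.Om6.Top

set_option autoImplicit false
set_option maxRecDepth 100000

namespace Cfsg.Agent.SchurG.Om6
open Cfsg.Agent.Comp

namespace Tk3

noncomputable def t0 : Tr := (Tr.leaf (nat_lit 0x1fffff800fffffc007ffffe003fffff001fffff800fffffc007ffffe003fffff001fffff800fffffc007ffffe003fffff001fffff800fffffe087ff020003ff831))

noncomputable def T : Tr := t0

def RT : List (List (List Nat)) := [
  [],
  []]

def HT : List (List (Nat × Nat × Nat)) := [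
  [],
  []]

def R : List (List Nat) :=
  [[0, 0]]

def W : List (List Nat) := []

noncomputable def P : Par := ⟨T, (nat_lit 4), (nat_lit 15), (nat_lit 33), (nat_lit 11), (nat_lit 2047), (nat_lit 5), (nat_lit 31), (nat_lit 1), (nat_lit 18), (nat_lit 32), (nat_lit 0x820), RT⟩

noncomputable def J0 : List Nat := [
  nat_lit 0x69249249249249249249249]

theorem c0 : chk T (nat_lit 4) (nat_lit 15) (nat_lit 33) (nat_lit 11) (nat_lit 2047) (nat_lit 5) (nat_lit 31) (nat_lit 1) (nat_lit 18) (nat_lit 32) (nat_lit 0x820) (nat_lit 1) (nat_lit 1) RT (nat_lit 16) J0 (nat_lit 16) = true := by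
  decide +kernel

theorem r0 : P.RowsOK 16 32 := chk_sound P _ _ _ J0 _ _ (by decide +kernel) c0

theorem index.{u} : IndexLe.{u} 1 R W 2 :=
  indexLe_of_cert P HT (by decide +kernel)
    (show P.RowsOK 16 32 from r0)

end Tk3

theorem upK_3 : CardLe (genW s [[0]]) 2 :=
  CardLe.tc (V' := []) (n := 2) (m := 1) [0] Tk3.index pres.sat (by decide +kernel) (by decide +kernel) (by decide +kernel) (cardLe_nil s)

namespace Tk2

noncomputable def t0 : Tr := (Tr.leaf (nat_lit 0xfffffffffffffff000fffffffffffffff000fffffffffffffff000fffffffffffffff000fffffffffffffff000fffffffffffffff000fffffffffffffff000fffffffffffffffc74fff014055076097872fff012053097076871fff011077053075851fff037011052074470fff010076075053450fff036010074052430fff035034010051000fff033032031030))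

noncomputable def T : Tr := t0

def RT : List (List (List Nat)) := [
  [[nat_lit 5],
   [nat_lit 1, nat_lit 0, nat_lit 1],
   [nat_lit 2, nat_lit 0, nat_lit 2],
   [nat_lit 3, nat_lit 0, nat_lit 3]],
  [[nat_lit 2, nat_lit 1, nat_lit 2],
   [nat_lit 3, nat_lit 1, nat_lit 3]],
  [[nat_lit 3, nat_lit 2, nat_lit 3]],
  [],
  []]

def HT : List (List (Nat × Nat × Nat)) := [
  [(2, 0, 0), (0, 4, 1), (0, 5, 1), (0, 7, 1)],
  [(0, 6, 1), (0, 8, 1)],
  [(0, 9, 1)],
  [],
  []]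

def R : List (List Nat) :=
  [[0, 0],
   [1, 1],
   [2, 2],
   [3, 3],
   [0, 1, 0, 1],
   [0, 2, 0, 2],
   [1, 2, 1, 2],
   [0, 3, 0, 3],
   [1, 3, 1, 3],
   [2, 3, 2, 3]]

def W : List (List Nat) := [[0]]

noncomputable def P : Par := ⟨T, (nat_lit 4), (nat_lit 15), (nat_lit 72), (nat_lit 12), (nat_lit 4095), (nat_lit 5), (nat_lit 31), (nat_lit 4), (nat_lit 24), (nat_lit 32), (nat_lit 0xa418820), RT⟩

noncomputable def J0 : List Nat := [
  nat_lit 0x8c8002e20060880d02218a203588868510d6a2108421084210842108421084210842108421084210842108421]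

theorem c0 : chk T (nat_lit 4) (nat_lit 15) (nat_lit 72) (nat_lit 12) (nat_lit 4095) (nat_lit 5) (nat_lit 31) (nat_lit 4) (nat_lit 24) (nat_lit 32) (nat_lit 0xa418820) (nat_lit 3) (nat_lit 7) RT (nat_lit 16) J0 (nat_lit 16) = true := by
  decide +kernel

theorem r0 : P.RowsOK 16 32 := chk_sound P _ _ _ J0 _ _ (by decide +kernel) c0

theorem index.{u} : IndexLe.{u} 4 R W 8 :=
  indexLe_of_cert P HT (by decide +kernel)
    (show P.RowsOK 16 32 from r0)

end Tk2

theorem upK_2 : CardLe (genW s [[0], [1], [2], [3]]) 16 :=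
  CardLe.tc (V' := [[0]]) (n := 8) (m := 2) [0, 1, 2, 3] Tk2.index pres.sat (by decide +kernel) (by decide +kernel) (by decide +kernel) upK_3

namespace Tk1

noncomputable def t0 : Tr := (Tr.leaf (nat_lit 0x1fffffffffffffffffff001fffffffffffffffffff001fffffffffffffffffff001fffffffffffffffffff001fffffffffffffffffff001fffffffffffffffffff001fffffffffffffffffff001fffffffffffffffffff001fffffffffffffffffff001fffffffffffffffffff001fffffffffffffffffff001fffffffffffffffffff001fffffffffffffffffff961ffc2881012424829052921ffc080720a214428891001ffc190310600c018030))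

noncomputable def T : Tr := t0

def RT : List (List (List Nat)) := [
  [[nat_lit 7],
   [nat_lit 4, nat_lit 0, nat_lit 1, nat_lit 5]],
  [[nat_lit 7],
   [nat_lit 4, nat_lit 3, nat_lit 5],
   [nat_lit 5, nat_lit 1, nat_lit 3, nat_lit 4]],
  [[nat_lit 7],
   [nat_lit 5, nat_lit 2, nat_lit 3, nat_lit 4],
   [nat_lit 5, nat_lit 3, nat_lit 2, nat_lit 4]],
  [[nat_lit 5, nat_lit 1, nat_lit 4],
   [nat_lit 7]],
  [],
  [[nat_lit 4, nat_lit 4]],
  []]

def HT : List (List (Nat × Nat × Nat)) := [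
  [(2, 0, 0), (0, 16, 4)],
  [(2, 1, 0), (0, 13, 1), (0, 14, 4)],
  [(2, 2, 0), (0, 15, 4), (1, 15, 2)],
  [(0, 13, 3), (2, 3, 0)],
  [],
  [(0, 12, 0)],
  []]

def R : List (List Nat) :=
  [[0, 0],
   [1, 1],
   [2, 2],
   [3, 3],
   [4, 5],
   [5, 4],
   [0, 1, 0, 1],
   [0, 2, 0, 2],
   [1, 2, 1, 2],
   [0, 3, 0, 3],
   [1, 3, 1, 3],
   [2, 3, 2, 3],
   [4, 4, 4],
   [1, 4, 3, 5],
   [1, 3, 4, 1, 5],
   [2, 3, 4, 2, 5],
   [0, 1, 5, 0, 4]]

def W : List (List Nat) := [[0],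
   [1],
   [2],
   [3]]

noncomputable def P : Par := ⟨T, (nat_lit 4), (nat_lit 15), (nat_lit 88), (nat_lit 11), (nat_lit 2047), (nat_lit 5), (nat_lit 31), (nat_lit 6), (nat_lit 19), (nat_lit 32), (nat_lit 0x3988518820), RT⟩

noncomputable def J0 : List Nat := [
  nat_lit 0x4640011900046400139002e342216e28a0842108421084210842108421084210842108421084210842108421084210842108421084210842108421084210842108421084210842108421]

theorem c0 : chk T (nat_lit 4) (nat_lit 15) (nat_lit 88) (nat_lit 11) (nat_lit 2047) (nat_lit 5) (nat_lit 31) (nat_lit 6) (nat_lit 19) (nat_lit 32) (nat_lit 0x3988518820) (nat_lit 3) (nat_lit 7) RT (nat_lit 16) J0 (nat_lit 16) = true := by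
  decide +kernel

theorem r0 : P.RowsOK 16 32 := chk_sound P _ _ _ J0 _ _ (by decide +kernel) c0

theorem index.{u} : IndexLe.{u} 6 R W 3 :=
  indexLe_of_cert P HT (by decide +kernel)
    (show P.RowsOK 16 32 from r0)

end Tk1

theorem upK_1 : CardLe (genW s [[0], [1], [2], [3], [4], [5]]) 48 :=
  CardLe.tc (V' := [[0], [1], [2], [3]]) (n := 3) (m := 16) [0, 1, 2, 3, 4, 5] Tk1.index pres.sat (by decide +kernel) (by decide +kernel) (by decide +kernel) upK_2

namespace Tk0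

noncomputable def t0 : Tr := (Tr.leaf (nat_lit 0xffffffffffffffffffffffff000ffffffffffffffffffffffff000ffffffffffffffffffffffff000ffffffffffffffffffffffffcd5fff0151b91981fb21b1db0bbc15fff09a1370560f6117117015cd4fff0141381db1990590591f9cd3fff0131bb1590981781781d8c72fff21717615a01213a13a054c32fff1b607a19711a0b20120538b1fff03b0b30110d30f40f403a871fff039114134011115115077831fff0380710d50f5051011076811fff0521d21b20370960360114d0fff010035093034073033032000fff031050030030030030030))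

noncomputable def T : Tr := t0

def RT : List (List (List Nat)) := [
  [[nat_lit 1, nat_lit 0, nat_lit 1],
   [nat_lit 3, nat_lit 0, nat_lit 3],
   [nat_lit 8],
   [nat_lit 6, nat_lit 0, nat_lit 6, nat_lit 0, nat_lit 6],
   [nat_lit 5, nat_lit 0, nat_lit 4, nat_lit 1],
   [nat_lit 4, nat_lit 1, nat_lit 0, nat_lit 5]],
  [[nat_lit 8],
   [nat_lit 6, nat_lit 3, nat_lit 6, nat_lit 2, nat_lit 6, nat_lit 3, nat_lit 6],
   [nat_lit 3, nat_lit 1, nat_lit 3],
   [nat_lit 4, nat_lit 1, nat_lit 5, nat_lit 3],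
   [nat_lit 4, nat_lit 3, nat_lit 5]],
  [[nat_lit 6, nat_lit 3, nat_lit 6, nat_lit 1, nat_lit 6, nat_lit 3, nat_lit 6],
   [nat_lit 8],
   [nat_lit 1, nat_lit 6, nat_lit 2, nat_lit 1, nat_lit 6],
   [nat_lit 0, nat_lit 2, nat_lit 0],
   [nat_lit 3, nat_lit 2, nat_lit 3],
   [nat_lit 4, nat_lit 2, nat_lit 5, nat_lit 3]],
  [[nat_lit 8],
   [nat_lit 6, nat_lit 1, nat_lit 6, nat_lit 3, nat_lit 6, nat_lit 2, nat_lit 6],
   [nat_lit 5, nat_lit 1, nat_lit 4],
   [nat_lit 0, nat_lit 3, nat_lit 0]],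
  [[nat_lit 0, nat_lit 4, nat_lit 0, nat_lit 1],
   [nat_lit 8],
   [nat_lit 1, nat_lit 4, nat_lit 3],
   [nat_lit 6, nat_lit 4, nat_lit 1, nat_lit 6, nat_lit 1]],
  [[nat_lit 1, nat_lit 6, nat_lit 1, nat_lit 5, nat_lit 6],
   [nat_lit 4, nat_lit 4],
   [nat_lit 3, nat_lit 5, nat_lit 1]],
  [[nat_lit 0, nat_lit 6, nat_lit 0, nat_lit 6, nat_lit 0],
   [nat_lit 4, nat_lit 1, nat_lit 6, nat_lit 1, nat_lit 5]],
  []]

def HT : List (List (Nat × Nat × Nat)) := [
  [(0, 7, 1), (0, 10, 1), (2, 0, 0), (0, 20, 1), (1, 17, 0), (1, 17, 2)],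
  [(2, 1, 0), (0, 22, 1), (0, 11, 1), (1, 15, 0), (0, 14, 1)],
  [(0, 22, 5), (2, 2, 0), (1, 18, 2), (0, 8, 0), (0, 12, 1), (1, 16, 0)],
  [(2, 3, 0), (0, 22, 7), (0, 14, 3), (0, 10, 0)],
  [(0, 17, 3), (2, 4, 0), (0, 14, 0), (0, 19, 2)],
  [(0, 19, 4), (0, 13, 0), (0, 14, 2)],
  [(0, 20, 0), (0, 19, 3)],
  []]

def R : List (List Nat) :=
  [[0, 0],
   [1, 1],
   [2, 2],
   [3, 3],
   [4, 5],
   [5, 4],
   [6, 6],
   [0, 1, 0, 1],
   [0, 2, 0, 2],
   [1, 2, 1, 2],
   [0, 3, 0, 3],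
   [1, 3, 1, 3],
   [2, 3, 2, 3],
   [4, 4, 4],
   [1, 4, 3, 5],
   [1, 3, 4, 1, 5],
   [2, 3, 4, 2, 5],
   [0, 1, 5, 0, 4],
   [1, 2, 6, 1, 2, 6],
   [1, 5, 6, 4, 1, 6],
   [0, 6, 0, 6, 0, 6],
   [0, 4, 0, 6, 1, 5, 6],
   [1, 6, 3, 6, 2, 6, 3, 6]]

def W : List (List Nat) := [[0],
   [1],
   [2],
   [3],
   [4],
   [5]]

noncomputable def P : Par := ⟨T, (nat_lit 4), (nat_lit 15), (nat_lit 108), (nat_lit 12), (nat_lit 4095), (nat_lit 5), (nat_lit 31), (nat_lit 7), (nat_lit 28), (nat_lit 32), (nat_lit 0x83988518820), RT⟩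

noncomputable def J0 : List Nat := [
  nat_lit 0xac8002320009c8002320009c801000022188a2041118020100444011348b0151000616044341d7b0221ed40a218cd5461bbcae210842108421084210842108421084210842108421]

theorem c0 : chk T (nat_lit 4) (nat_lit 15) (nat_lit 108) (nat_lit 12) (nat_lit 4095) (nat_lit 5) (nat_lit 31) (nat_lit 7) (nat_lit 28) (nat_lit 32) (nat_lit 0x83988518820) (nat_lit 3) (nat_lit 7) RT (nat_lit 16) J0 (nat_lit 16) = true := by
  decide +kernel

theorem r0 : P.RowsOK 16 32 := chk_sound P _ _ _ J0 _ _ (by decide +kernel) c0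

theorem index.{u} : IndexLe.{u} 7 R W 12 :=
  indexLe_of_cert P HT (by decide +kernel)
    (show P.RowsOK 16 32 from r0)

end Tk0

theorem upK : CardLe (genW s [[0], [1], [2], [3], [4], [5], [6]]) 576 :=
  CardLe.tc (V' := [[0], [1], [2], [3], [4], [5]]) (n := 12) (m := 48) [0, 1, 2, 3, 4, 5, 6] Tk0.index pres.sat (by decide +kernel) (by decide +kernel) (by decide +kernel) upK_1

theorem up : CardLe (gen s 8) 25920 := upK.step (Top.index _ s pres.sat)

end Cfsg.Agent.SchurG.Om6
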